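import Groth.Prelude.Def_CGrpSh2
import Groth.Agent.Lib.EtJ.ExtZero
import Mathlib.CategoryTheory.Sites.CoverLifting
import Mathlib.CategoryTheory.Sites.EpiMono
import Mathlib.CategoryTheory.Preadditive.Injective.Preserves
import Mathlib.Algebra.Homology.ShortComplex.ShortExact
import Mathlib.Algebra.Homology.ShortComplex.Ab
import Mathlib.CategoryTheory.Abelian.RightDerived

/-!
# Dualising short exact sequences of abelian sheaves, and the five lemma for double duals
-/

universe u

open CategoryTheory CategoryTheory.Limits Opposite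

namespace Groth.Agent.Lib.HomShDual

variable {C : Type (u + 1)} [Category.{u} C] (J : GrothendieckTopology C)

section Restr

variable (X : C)

/-- The final discrete subcategory of costructured arrows. -/
def discreteFunctor (W : C) :
    Discrete (W ⟶ X) ⥤ CostructuredArrow (Over.forget X).op (op W) :=
  Discrete.functor fun φ => CostructuredArrow.mk (Y := op (Over.mk φ)) (𝟙 W).op

instance discreteFunctor_final (W : C) : (discreteFunctor X W).Final where
  out d := by
    let g : W ⟶ d.left.unop.left := d.hom.unop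
    let φ : W ⟶ X := g ≫ d.left.unop.hom
    let k : Over.mk φ ⟶ d.left.unop := Over.homMk g rfl
    let a : d ⟶ (discreteFunctor X W).obj ⟨φ⟩ := CostructuredArrow.homMk k.op
      (Quiver.Hom.unop_inj (Category.id_comp _))
    have key : ∀ y : StructuredArrow d (discreteFunctor X W),
        y = StructuredArrow.mk (Y := (⟨φ⟩ : Discrete (W ⟶ X))) a := by
      rintro ⟨⟨⟨⟩⟩, ⟨ψ⟩, b⟩
      have hb : b.left.unop.left = g := by
        have := congrArg (fun m => m.unop) (CostructuredArrow.w b)
        exact (Category.id_comp _).symm.trans this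
      have hw : b.left.unop.left ≫ d.left.unop.hom = ψ := Over.w b.left.unop
      obtain rfl : ψ = φ := by
        rw [← hw, hb]; rfl
      obtain rfl : b = a := CostructuredArrow.hom_ext _ _
        (Quiver.Hom.unop_inj (Over.OverMorphism.ext hb))
      rfl
    have : Nonempty (StructuredArrow d (discreteFunctor X W)) := ⟨StructuredArrow.mk a⟩
    exact zigzag_isConnected fun y z => by rw [key y, key z]

instance hasExactColimits_costructuredArrow (W : Cᵒᵖ) :
    HasExactColimitsOfShape (CostructuredArrow (Over.forget X).op W) AddCommGrpCat.{u + 1} := by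
  obtain ⟨W⟩ := W
  have : HasExactColimitsOfShape (Discrete (W ⟶ X)) AddCommGrpCat.{u + 1} :=
    HasExactColimitsOfShape.of_domain_equivalence AddCommGrpCat.{u + 1}
      (Discrete.equivalence (Equiv.ulift.{u + 1} (α := W ⟶ X)))
  exact hasExactColimitsOfShape_of_final AddCommGrpCat.{u + 1} (discreteFunctor X W)

variable [HasSheafify J AddCommGrpCat.{u + 1}]

instance extZero_preservesFiniteLimits :
    PreservesFiniteLimits ((Over.forget X).sheafPullback AddCommGrpCat.{u + 1} (J.over X) J) := by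
  have : PreservesFiniteLimits ((Over.forget X).op.lan :
      (_ ⥤ AddCommGrpCat.{u + 1}) ⥤ _) := EtJ.ExtZero.lan_preservesFiniteLimits_of_exact _
  have : PreservesFiniteLimits
      (Functor.sheafPullbackConstruction.sheafPullback (Over.forget X)
        AddCommGrpCat.{u + 1} (J.over X) J) := by
    have : PreservesFiniteLimits
        ((Over.forget X).op.lan ⋙ presheafToSheaf J AddCommGrpCat.{u + 1}) :=
      comp_preservesFiniteLimits _ _
    exact comp_preservesFiniteLimits _ _
  exact preservesFiniteLimits_of_natIso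
    (Functor.sheafPullbackConstruction.sheafPullbackIso (Over.forget X)
      AddCommGrpCat.{u + 1} (J.over X) J).symm

instance restr_preservesInjectiveObjects :
    (J.overPullback AddCommGrpCat.{u + 1} X).PreservesInjectiveObjects :=
  have : PreservesLimitsOfShape WalkingCospan
      ((Over.forget X).sheafPullback AddCommGrpCat.{u + 1} (J.over X) J) := inferInstance
  Functor.preservesInjectiveObjects_of_adjunction_of_preservesMonomorphisms
    ((Over.forget X).sheafAdjunctionContinuous AddCommGrpCat.{u + 1} (J.over X) J)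

instance restr_preservesFiniteColimits :
    PreservesFiniteColimits (J.overPullback AddCommGrpCat.{u + 1} X) :=
  have : PreservesColimitsOfSize.{0, 0} (J.overPullback AddCommGrpCat.{u + 1} X) :=
    ((Over.forget X).sheafAdjunctionCocontinuous AddCommGrpCat.{u + 1} (J.over X) J).leftAdjoint_preservesColimits
  PreservesColimitsOfSize.preservesFiniteColimits _

instance restr_preservesFiniteLimits :
    PreservesFiniteLimits (J.overPullback AddCommGrpCat.{u + 1} X) :=
  have : PreservesLimitsOfSize.{0, 0} (J.overPullback AddCommGrpCat.{u + 1} X) :=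
    ((Over.forget X).sheafAdjunctionContinuous AddCommGrpCat.{u + 1} (J.over X) J).rightAdjoint_preservesLimits
  PreservesLimitsOfSize.preservesFiniteLimits _

theorem restr_exact {S : ShortComplex (Sheaf J AddCommGrpCat.{u + 1})} (hS : S.Exact) :
    (S.map (J.overPullback AddCommGrpCat.{u + 1} X)).Exact :=
  hS.map _

theorem restr_epi {F G : Sheaf J AddCommGrpCat.{u + 1}} (f : F ⟶ G) [Epi f] :
    Epi ((J.overPullback AddCommGrpCat.{u + 1} X).map f) :=
  inferInstance

theorem restr_mono {F G : Sheaf J AddCommGrpCat.{u + 1}} (f : F ⟶ G) [Mono f] :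
    Mono ((J.overPullback AddCommGrpCat.{u + 1} X).map f) :=
  inferInstance

end Restr

section Sections

variable [HasSheafify J AddCommGrpCat.{u + 1}]

/-- In an exact complex of sheaves, a section killed by the second map lifts locally. -/
theorem exists_local_lift {S : ShortComplex (Sheaf J AddCommGrpCat.{u + 1})} (hS : S.Exact) {X : C}
    (s : S.X₂.obj.obj (op X)) (hs : S.g.hom.app (op X) s = 0) :
    Presheaf.imageSieve S.f.hom s ∈ J X := by
  let E := sheafToPresheaf J AddCommGrpCat.{u + 1} ⋙ (evaluation _ _).obj (op X)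
  have hex : (ShortComplex.mk (E.map (kernel.ι S.g)) (E.map S.g)
      (by rw [← E.map_comp, kernel.condition]; exact E.map_zero _ _)).Exact :=
    ShortComplex.exact_of_f_is_kernel _ (isLimitOfHasKernelOfPreservesLimit E S.g)
  obtain ⟨z, hz⟩ := (ShortComplex.ab_exact_iff _).1 hex s hs
  have : Epi (kernel.lift S.g S.f S.zero) := (S.exact_iff_epi_kernel_lift).1 hS
  have hls : Sheaf.IsLocallySurjective (kernel.lift S.g S.f S.zero) :=
    (Sheaf.isLocallySurjective_iff_epi' AddCommGrpCat.{u + 1} _).2 inferInstance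
  refine J.superset_covering ?_ (Presheaf.imageSieve_mem J (kernel.lift S.g S.f S.zero).hom z)
  rintro V i ⟨t, ht⟩
  refine ⟨t, ?_⟩
  have h1 : ((kernel.lift S.g S.f S.zero) ≫ kernel.ι S.g).hom.app (op V) t = S.f.hom.app (op V) t :=
    congrArg (fun m : S.X₁ ⟶ S.X₂ => m.hom.app (op V) t) (kernel.lift_ι _ _ _)
  refine h1.symm.trans ?_
  change (kernel.ι S.g).hom.app (op V) ((kernel.lift S.g S.f S.zero).hom.app (op V) t) = _
  rw [ht, NatTrans.naturality_apply (kernel.ι S.g).hom i.op z]
  exact congrArg _ hz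

/-- A complex of sheaves exact on sections is exact. -/
theorem exact_of_sections (S : ShortComplex (Sheaf J AddCommGrpCat.{u + 1}))
    (h : ∀ (X : C) (s : S.X₂.obj.obj (op X)), S.g.hom.app (op X) s = 0 →
      ∃ t, S.f.hom.app (op X) t = s) : S.Exact := by
  rw [S.exact_iff_epi_kernel_lift]
  have hls : Sheaf.IsLocallySurjective (kernel.lift S.g S.f S.zero) := by
    refine Presheaf.isLocallySurjective_of_surjective J _ ?_
    rintro ⟨X⟩ z
    let E := sheafToPresheaf J AddCommGrpCat.{u + 1} ⋙ (evaluation _ _).obj (op X)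
    obtain ⟨t, ht⟩ := h X ((kernel.ι S.g).hom.app (op X) z)
      (congrArg (fun m : kernel S.g ⟶ S.X₃ => m.hom.app (op X) z) (kernel.condition S.g))
    refine ⟨t, ?_⟩
    have hinj : Function.Injective ((kernel.ι S.g).hom.app (op X)) :=
      (AddCommGrpCat.mono_iff_injective (E.map (kernel.ι S.g))).1 inferInstance
    apply hinj
    exact (congrArg (fun m : S.X₁ ⟶ S.X₂ => m.hom.app (op X) t) (kernel.lift_ι _ _ _)).trans ht
  exact (Sheaf.isLocallySurjective_iff_epi' AddCommGrpCat.{u + 1} _).1 hls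

theorem mono_of_sections {F G : Sheaf J AddCommGrpCat.{u + 1}} (f : F ⟶ G)
    (h : ∀ X : C, Function.Injective (f.hom.app (op X))) : Mono f := by
  have : Mono ((sheafToPresheaf J AddCommGrpCat.{u + 1}).map f) :=
    have : ∀ U, Mono (f.hom.app U) := fun U => (AddCommGrpCat.mono_iff_injective _).2 (h U.unop)
    NatTrans.mono_of_mono_app f.hom
  exact (sheafToPresheaf J AddCommGrpCat.{u + 1}).mono_of_mono_map this

end Sections

section Dual

variable (M : Sheaf J AddCommGrpCat.{u + 1})

/-- The dual of a complex. -/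
noncomputable def dualSeq (S : ShortComplex (Sheaf J AddCommGrpCat.{u + 1})) :
    ShortComplex (Sheaf J AddCommGrpCat.{u + 1}) :=
  ShortComplex.mk (HomSh.homShMap J S.g (𝟙 M)) (HomSh.homShMap J S.f (𝟙 M)) (by
    rw [← HomSh.homShMap_comp, S.zero, Category.comp_id]
    exact ((HomSh.homShBi J).flip.obj M).map_zero (op S.X₃) (op S.X₁))

variable [HasSheafify J AddCommGrpCat.{u + 1}]

theorem mono_dualSeq_f {S : ShortComplex (Sheaf J AddCommGrpCat.{u + 1})} (hS : S.ShortExact) :
    Mono (dualSeq J M S).f := by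
  refine mono_of_sections J _ fun X φ ψ h => ?_
  have := hS.epi_g
  have := restr_epi J X S.g
  refine (cancel_epi ((J.overPullback AddCommGrpCat.{u + 1} X).map S.g)).1 ?_
  have h' : (J.overPullback AddCommGrpCat.{u + 1} X).map S.g ≫ φ ≫
        (J.overPullback AddCommGrpCat.{u + 1} X).map (𝟙 M) =
      (J.overPullback AddCommGrpCat.{u + 1} X).map S.g ≫ ψ ≫
        (J.overPullback AddCommGrpCat.{u + 1} X).map (𝟙 M) := h
  rw [CategoryTheory.Functor.map_id] at h'
  exact ((congrArg (fun m => (J.overPullback AddCommGrpCat.{u + 1} X).map S.g ≫ m)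
    (Category.comp_id φ)).symm.trans h').trans (congrArg _ (Category.comp_id ψ))

theorem exact_dualSeq {S : ShortComplex (Sheaf J AddCommGrpCat.{u + 1})} (hS : S.ShortExact) :
    (dualSeq J M S).Exact := by
  refine exact_of_sections J _ fun X φ h => ?_
  have := hS.epi_g
  have : Epi (S.map (J.overPullback AddCommGrpCat.{u + 1} X)).g := restr_epi J X S.g
  have h' : (S.map (J.overPullback AddCommGrpCat.{u + 1} X)).f ≫ φ = 0 := by
    have h0 : (J.overPullback AddCommGrpCat.{u + 1} X).map S.f ≫ φ ≫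
        (J.overPullback AddCommGrpCat.{u + 1} X).map (𝟙 M) = 0 := h
    rw [CategoryTheory.Functor.map_id] at h0
    exact (congrArg (fun m => (J.overPullback AddCommGrpCat.{u + 1} X).map S.f ≫ m)
      (Category.comp_id φ)).symm.trans h0
  refine ⟨(restr_exact J X hS.exact).desc φ h', ?_⟩
  change (J.overPullback AddCommGrpCat.{u + 1} X).map S.g ≫ (restr_exact J X hS.exact).desc φ h' ≫
        (J.overPullback AddCommGrpCat.{u + 1} X).map (𝟙 M) = φ
  rw [CategoryTheory.Functor.map_id, Category.comp_id]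
  exact ShortComplex.Exact.g_desc (restr_exact J X hS.exact) φ h'

variable [HasInjectiveResolutions (Sheaf J AddCommGrpCat.{u + 1})]

theorem exact_homSh_resolution {F : Sheaf J AddCommGrpCat.{u + 1}} (I : InjectiveResolution M)
    (hExt : IsZero ((HomSh.extSh J F 1).obj M)) :
    (((HomSh.homShFunctor J F).mapHomologicalComplex _).obj I.cocomplex |>.sc' 0 1 2).Exact := by
  rw [HomSh.extSh_def] at hExt
  have h1 := IsZero.of_iso hExt (I.isoRightDerivedObj (HomSh.homShFunctor J F) 1).symm
  have h2 : (((HomSh.homShFunctor J F).mapHomologicalComplex _).obj I.cocomplex).ExactAt 1 :=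
    (HomologicalComplex.exactAt_iff_isZero_homology _ _).2 h1
  exact (HomologicalComplex.exactAt_iff' _ 0 1 2 (by simp) (by simp)).1 h2

theorem epi_dualSeq_g {S : ShortComplex (Sheaf J AddCommGrpCat.{u + 1})} (hS : S.ShortExact)
    (hExt : IsZero ((HomSh.extSh J S.X₃ 1).obj M)) : Epi (dualSeq J M S).g := by
  let I : InjectiveResolution M := (HasInjectiveResolution.out (Z := M)).some
  refine (Sheaf.isLocallySurjective_iff_epi' AddCommGrpCat.{u + 1} _).1 ⟨fun {X} (φ : S.X₁.over X ⟶ M.over X) => ?_⟩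
  let R := J.overPullback AddCommGrpCat.{u + 1} X
  change R.obj S.X₁ ⟶ R.obj M at φ
  let ι : M ⟶ I.cocomplex.X 0 := I.ι.f 0
  have hmι : Mono ι := inferInstanceAs (Mono (I.ι.f 0))
  have := hS.mono_f
  have := hS.epi_g
  have : Mono (R.map S.f) := restr_mono J X S.f
  have : Epi (S.map R).g := restr_epi J X S.g
  have : Injective (R.obj (I.cocomplex.X 0)) := Functor.injective_obj_of_injective _ (I.injective 0)
  let ψ : R.obj S.X₂ ⟶ R.obj (I.cocomplex.X 0) := Injective.factorThru (φ ≫ R.map ι) (R.map S.f)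
  have hψ : R.map S.f ≫ ψ = φ ≫ R.map ι := Injective.comp_factorThru _ _
  have hι : ι ≫ I.cocomplex.d 0 1 = 0 := I.ι_f_zero_comp_complex_d
  have h0 : R.map S.f ≫ ψ ≫ R.map (I.cocomplex.d 0 1) = 0 := by
    rw [← Category.assoc]
    refine Eq.trans (congrArg (· ≫ R.map (I.cocomplex.d 0 1)) hψ) ?_
    rw [Category.assoc, ← R.map_comp, hι, R.map_zero, comp_zero]
  let θ : R.obj S.X₃ ⟶ R.obj (I.cocomplex.X 1) := (restr_exact J X hS.exact).desc _ h0
  have hθ : R.map S.g ≫ θ = ψ ≫ R.map (I.cocomplex.d 0 1) :=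
    ShortComplex.Exact.g_desc (restr_exact J X hS.exact) _ h0
  have hθ1 : θ ≫ R.map (I.cocomplex.d 1 2) = 0 := by
    have : Epi (R.map S.g) := restr_epi J X S.g
    rw [← cancel_epi (R.map S.g), ← Category.assoc, hθ, Category.assoc, ← R.map_comp,
      HomologicalComplex.d_comp_d, R.map_zero, comp_zero, comp_zero]
  have hloc := exists_local_lift J (exact_homSh_resolution J M I hExt) (X := X) θ (by
    change R.map (𝟙 S.X₃) ≫ θ ≫ R.map (I.cocomplex.d 1 2) = 0
    rw [hθ1, comp_zero])
  refine J.superset_covering ?_ hloc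
  rintro V i ⟨t, ht⟩
  let R' := J.overPullback AddCommGrpCat.{u + 1} V
  let Rh := J.overMapPullback AddCommGrpCat.{u + 1} i
  change S.X₃.over V ⟶ (I.cocomplex.X 0).over V at t
  change R'.obj S.X₃ ⟶ R'.obj (I.cocomplex.X 0) at t
  let θV : R'.obj S.X₃ ⟶ R'.obj (I.cocomplex.X 1) := Rh.map θ
  let ψV : R'.obj S.X₂ ⟶ R'.obj (I.cocomplex.X 0) := Rh.map ψ
  let φV : R'.obj S.X₁ ⟶ R'.obj M := Rh.map φ
  have ht' : t ≫ R'.map (I.cocomplex.d 0 1) = θV := by
    have h : R'.map (𝟙 S.X₃) ≫ t ≫ R'.map (I.cocomplex.d 0 1) = θV := ht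
    rw [R'.map_id, Category.id_comp] at h
    exact h
  have hθ' : R'.map S.g ≫ θV = ψV ≫ R'.map (I.cocomplex.d 0 1) := by
    have h := congrArg Rh.map hθ
    rw [Rh.map_comp, Rh.map_comp] at h
    exact h
  have hψ' : R'.map S.f ≫ ψV = φV ≫ R'.map ι := by
    have h := congrArg Rh.map hψ
    rw [Rh.map_comp, Rh.map_comp] at h
    exact h
  let χ : R'.obj S.X₂ ⟶ R'.obj (I.cocomplex.X 0) := ψV - R'.map S.g ≫ t
  have hχ : χ ≫ R'.map (I.cocomplex.d 0 1) = 0 := by
    rw [Preadditive.sub_comp, Category.assoc, ht', hθ', sub_self]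
  let T := ShortComplex.mk ι (I.cocomplex.d 0 1) hι
  have hT : T.Exact := I.exact₀
  have : Mono (T.map R').f := restr_mono J V ι
  let φ' : R'.obj S.X₂ ⟶ R'.obj M := (restr_exact J V hT).lift χ hχ
  have hφ' : φ' ≫ R'.map ι = χ := ShortComplex.Exact.lift_f _ _ _
  refine ⟨φ', ?_⟩
  change R'.map S.f ≫ φ' ≫ R'.map (𝟙 M) = φV
  rw [R'.map_id, Category.comp_id]
  have : Mono (R'.map ι) := restr_mono J V ι
  rw [← cancel_mono (R'.map ι), Category.assoc, hφ', Preadditive.comp_sub, ← Category.assoc,
    ← R'.map_comp, S.zero, R'.map_zero, zero_comp, sub_zero]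
  exact hψ'

theorem shortExact_dualSeq {S : ShortComplex (Sheaf J AddCommGrpCat.{u + 1})} (hS : S.ShortExact)
    (hExt : IsZero ((HomSh.extSh J S.X₃ 1).obj M)) : (dualSeq J M S).ShortExact :=
  have := mono_dualSeq_f J M hS
  have := epi_dualSeq_g J M hS hExt
  .mk' (exact_dualSeq J M hS) inferInstance inferInstance

theorem bidualMap_naturality {F G : Sheaf J AddCommGrpCat.{u + 1}} (α : F ⟶ G) :
    HomSh.bidualMap J F M ≫ HomSh.homShMap J (HomSh.homShMap J α (𝟙 M)) (𝟙 M) =
      α ≫ HomSh.bidualMap J G M := by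
  refine Sheaf.hom_ext (NatTrans.ext (funext fun X => AddCommGrpCat.ext fun s => ?_))
  refine Sheaf.hom_ext (NatTrans.ext (funext fun U => AddCommGrpCat.ext fun φ => ?_))
  change φ.hom.app (op (Over.mk (𝟙 (unop U).left)))
      (α.hom.app (op (unop U).left) (F.obj.map (unop U).hom.op s)) =
    φ.hom.app (op (Over.mk (𝟙 (unop U).left))) (G.obj.map (unop U).hom.op (α.hom.app X s))
  exact congrArg _ (NatTrans.naturality_apply α.hom (unop U).hom.op s)

/-- The five lemma for double duals. -/
theorem isIso_bidualMap {S : ShortComplex (Sheaf J AddCommGrpCat.{u + 1})} (hS : S.ShortExact)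
    (hExt : IsZero ((HomSh.extSh J S.X₃ 1).obj M))
    (h₁ : IsIso (HomSh.bidualMap J S.X₁ M)) (h₃ : IsIso (HomSh.bidualMap J S.X₃ M)) :
    IsIso (HomSh.bidualMap J S.X₂ M) := by
  have hD := shortExact_dualSeq J M hS hExt
  let T := dualSeq J M (dualSeq J M S)
  let η : S ⟶ T :=
    { τ₁ := HomSh.bidualMap J S.X₁ M
      τ₂ := HomSh.bidualMap J S.X₂ M
      τ₃ := HomSh.bidualMap J S.X₃ M
      comm₁₂ := bidualMap_naturality J M S.f
      comm₂₃ := bidualMap_naturality J M S.g }
  have := mono_dualSeq_f J M hD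
  have := hS.epi_g
  have : IsIso η.τ₁ := h₁
  have : IsIso η.τ₃ := h₃
  have : Epi (η.τ₂ ≫ T.g) := η.comm₂₃ ▸ epi_comp S.g η.τ₃
  have : Epi T.g := epi_of_epi η.τ₂ T.g
  exact ShortComplex.isIso₂_of_shortExact_of_isIso₁₃ η hS
    (.mk' (exact_dualSeq J M hD) inferInstance inferInstance)

end Dual

end Groth.Agent.Lib.HomShDual
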